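import Mathlib
import Cfsg.Agent.Prune
set_option linter.all false
prune_inst 0x7f00000000000000000000000000000000000000000000000000000000000000000000000000000000000000000000000000000000000000000000000000000000000000000000000000000000000000003fffffffffdfffffffffffffffffbeffbdffffffff
open scoped Cfsg.Agent.FastGrp

/-!
# Numbers, fields and polynomials for P-OUT (helper767, S3536)

* `exists_r` : an odd prime dividing `p ^ 2 ^ k + 1`;
* `two_pow_dvd` : `r ∣ q ^ 2 ^ k + 1`, `r ∣ q ^ d - 1` give `2 ^ (k + 1) ∣ d`;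
* `orderOf_frob` : the Frobenius automorphism of the field with `p ^ a` elements has order `a`;
* `exists_sqrt` : `L ^ r = 1`, `L ≠ 1` on a space of dimension `2 ^ (k + 1)`: every scalar is a square in `F[L]`;
* `adj` : adjoints of polynomials.
-/

set_option autoImplicit false

namespace Cfsg.Agent.H767.PO

open Polynomial

theorem exists_r {p k : ℕ} (hp : p.Prime) (hp2 : p ≠ 2) (hk : 1 ≤ k) :
    ∃ r, r.Prime ∧ r ≠ 2 ∧ r ∣ p ^ 2 ^ k + 1 := by
  have hodd : Odd p := hp.odd_of_ne_two hp2
  obtain ⟨j, rfl⟩ : ∃ j, k = j + 1 := ⟨k - 1, by omega⟩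
  set x := p ^ 2 ^ j with hx
  have hxo : Odd x := hodd.pow
  have hx3 : 3 ≤ x := by
    have h1 : 3 ≤ p := by
      have := hp.two_le
      omega
    calc 3 ≤ p := h1
      _ = p ^ 1 := (pow_one p).symm
      _ ≤ p ^ 2 ^ j := Nat.pow_le_pow_right (by omega) Nat.one_le_two_pow
  have h1 : p ^ 2 ^ (j + 1) = x * x := by rw [pow_succ, pow_mul, ← hx, sq]
  rw [h1]
  obtain ⟨c, hc⟩ := hxo
  have h2 : x * x + 1 = 2 * (2 * (c * c + c) + 1) := by rw [hc]; ring
  refine ⟨(2 * (c * c + c) + 1).minFac, Nat.minFac_prime ?_, ?_, ?_⟩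
  · have : 1 ≤ c := by omega
    have : 1 ≤ c * c := Nat.mul_pos this this
    omega
  · intro h
    have := Nat.minFac_dvd (2 * (c * c + c) + 1)
    rw [h] at this
    omega
  · rw [h2]
    exact (Nat.minFac_dvd _).trans (dvd_mul_left _ _)

theorem dvd_of_odd {p k a r : ℕ} (ha : Odd a) (h : r ∣ p ^ 2 ^ k + 1) : r ∣ (p ^ a) ^ 2 ^ k + 1 := by
  refine h.trans ?_
  have h1 := Odd.nat_add_dvd_pow_add_pow (p ^ 2 ^ k) 1 ha
  rw [one_pow, ← pow_mul, mul_comm, pow_mul] at h1
  exact h1

theorem two_pow_dvd {r q k d : ℕ} (hr : r.Prime) (hr2 : r ≠ 2) (h : r ∣ q ^ 2 ^ k + 1) (hd : r ∣ q ^ d - 1) :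
    2 ^ (k + 1) ∣ d := by
  haveI : Fact r.Prime := ⟨hr⟩
  haveI : Fact (2 : ℕ).Prime := ⟨Nat.prime_two⟩
  have h2 : (2 : ZMod r) ≠ 0 := by
    intro h0
    have : r ∣ 2 := (ZMod.natCast_eq_zero_iff 2 r).1 (by exact_mod_cast h0)
    exact hr2 ((Nat.prime_dvd_prime_iff_eq hr Nat.prime_two).1 this)
  have h3 : (q : ZMod r) ^ 2 ^ k = -1 := by
    have : ((q ^ 2 ^ k + 1 : ℕ) : ZMod r) = 0 := (ZMod.natCast_eq_zero_iff _ r).2 h
    push_cast at this
    linear_combination this
  have h4 : orderOf (q : ZMod r) = 2 ^ (k + 1) := by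
    apply orderOf_eq_prime_pow
    · rw [h3]
      intro h5
      apply h2
      linear_combination -h5
    · rw [pow_succ, pow_mul, h3]
      norm_num
  rw [← h4]
  apply orderOf_dvd_of_pow_eq_one
  have hq : 1 ≤ q := by
    rcases Nat.eq_zero_or_pos q with h0 | h0
    · exfalso
      subst h0
      rw [zero_pow (by positivity)] at h
      exact hr.one_lt.ne' (Nat.dvd_one.1 (by simpa using h))
    · exact h0
  have h5 : ((q ^ d - 1 : ℕ) : ZMod r) = 0 := (ZMod.natCast_eq_zero_iff _ r).2 hd
  rw [Nat.cast_sub (Nat.one_le_pow _ _ hq)] at h5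
  push_cast at h5
  linear_combination h5

section Frob

variable {F : Type*} [Field F] [Fintype F] {p a : ℕ} [Fact p.Prime] [CharP F p]

theorem frob_pow (j : ℕ) (x : F) : ((frobeniusEquiv F p : F ≃+* F) ^ j) x = x ^ p ^ j := by
  induction j with
  | zero => simp
  | succ j ih =>
    rw [pow_succ', RingAut.mul_apply, ih, frobeniusEquiv_apply, frobenius_def, ← pow_mul, ← pow_succ]

theorem orderOf_frob (ha : a ≠ 0) (hF : Fintype.card F = p ^ a) : orderOf (frobeniusEquiv F p : F ≃+* F) = a := by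
  classical
  have hp := (Fact.out : p.Prime)
  apply Nat.le_antisymm
  · apply orderOf_le_of_pow_eq_one (Nat.pos_of_ne_zero ha)
    ext x
    rw [frob_pow, ← hF, FiniteField.pow_card]
    rfl
  · have hfin : Finite (F ≃+* F) :=
      Finite.of_injective (fun e : F ≃+* F => (e : F → F)) (fun a b h => RingEquiv.ext (congrFun h))
    set j := orderOf (frobeniusEquiv F p : F ≃+* F) with hj
    have hj0 : 0 < j := orderOf_pos _
    have h1 : ∀ x : F, x ^ p ^ j = x := by
      intro x
      rw [← frob_pow, hj, pow_orderOf_eq_one]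
      rfl
    obtain ⟨g, hg⟩ := IsCyclic.exists_generator (α := Fˣ)
    have h2 : orderOf g = p ^ a - 1 := by
      rw [orderOf_eq_card_of_forall_mem_zpowers hg, Nat.card_eq_fintype_card, Fintype.card_units, hF]
    have h3 : g ^ (p ^ j - 1) = 1 := by
      have h4 : g ^ p ^ j = g := Units.ext (by push_cast; exact h1 _)
      have h5 : g ^ p ^ j = g ^ (p ^ j - 1) * g := by
        rw [← pow_succ, Nat.sub_add_cancel (Nat.one_le_pow _ _ hp.pos)]
      rw [h5] at h4
      exact mul_eq_right.1 h4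
    have h4 := orderOf_dvd_of_pow_eq_one h3
    rw [h2] at h4
    have h5 : p ^ a - 1 ≤ p ^ j - 1 := Nat.le_of_dvd (by
      have : 1 < p ^ j := Nat.one_lt_pow hj0.ne' hp.one_lt
      omega) h4
    have h6 : 1 ≤ p ^ a := Nat.one_le_pow _ _ hp.pos
    have h7 : 1 ≤ p ^ j := Nat.one_le_pow _ _ hp.pos
    exact (Nat.pow_le_pow_iff_right hp.one_lt).1 (by omega)

end Frob

section Poly

variable {F V : Type*} [Field F] [Fintype F] [AddCommGroup V] [Module F V] [FiniteDimensional F V]

/-- the degree of an irreducible factor of `1 + X + ... + X ^ (r - 1)` -/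
theorem dvd_natDegree {r k : ℕ} (hr : r.Prime) (hr2 : r ≠ 2) (h : r ∣ Fintype.card F ^ 2 ^ k + 1) {g : F[X]}
    (hg : Irreducible g) (hd : g ∣ ∑ i ∈ Finset.range r, (X : F[X]) ^ i) : 2 ^ (k + 1) ∣ g.natDegree := by
  classical
  haveI : Fact r.Prime := ⟨hr⟩
  have hr0 : (r : F) ≠ 0 := by
    intro h0
    have h1 : ((Fintype.card F ^ 2 ^ k + 1 : ℕ) : F) = 0 := by
      obtain ⟨c, hc⟩ := h
      rw [hc, Nat.cast_mul, h0, zero_mul]
    push_cast at h1
    rw [FiniteField.cast_card_eq_zero, zero_pow (by positivity), zero_add] at h1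
    exact one_ne_zero h1
  haveI : Fact (Irreducible g) := ⟨hg⟩
  let K := AdjoinRoot g
  let B := AdjoinRoot.powerBasis hg.ne_zero
  have hfd : FiniteDimensional F K := B.finite
  have hfin : Finite K := Module.finite_of_finite F
  letI := Fintype.ofFinite K
  have hcard : Fintype.card K = Fintype.card F ^ g.natDegree := by
    have h2 : Fintype.card K = Fintype.card F ^ Module.finrank F K := Module.card_eq_pow_finrank
    rw [h2, B.finrank, AdjoinRoot.powerBasis_dim hg.ne_zero]
  set μ : K := AdjoinRoot.root g with hμ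
  have h1 : ∑ i ∈ Finset.range r, μ ^ i = 0 := by
    obtain ⟨w, hw⟩ := hd
    have h2 := congrArg (aeval μ) hw
    rw [map_mul, map_sum] at h2
    have h3 : aeval μ g = 0 := by
      rw [hμ, AdjoinRoot.aeval_eq, AdjoinRoot.mk_self]
    rw [h3, zero_mul] at h2
    simpa using h2
  have hμ1 : μ ≠ 1 := by
    intro h2
    rw [h2] at h1
    simp only [one_pow, Finset.sum_const, Finset.card_range, nsmul_eq_mul, mul_one] at h1
    apply hr0
    have h3 : algebraMap F K (r : F) = 0 := by rw [map_natCast]; exact h1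
    exact (map_eq_zero _).1 h3
  have hμr : μ ^ r = 1 := by
    have h2 := geom_sum_mul μ r
    rw [h1, zero_mul] at h2
    exact (sub_eq_zero.1 h2.symm)
  have hord : orderOf μ = r := orderOf_eq_prime hμr hμ1
  have hμ0 : μ ≠ 0 := by
    intro h0
    rw [h0, zero_pow hr.ne_zero] at hμr
    exact zero_ne_one hμr
  apply two_pow_dvd hr hr2 h
  rw [← hcard, ← hord]
  apply orderOf_dvd_of_pow_eq_one
  exact FiniteField.pow_card_sub_one_eq_one μ hμ0

theorem exists_sqrt {r k : ℕ} (hr : r.Prime) (hr2 : r ≠ 2) (h : r ∣ Fintype.card F ^ 2 ^ k + 1)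
    (hV : Module.finrank F V = 2 ^ (k + 1)) {L : Module.End F V} (hL : L ^ r = 1) (hL1 : L ≠ 1) (ν : F) :
    ∃ P : F[X], (aeval L P) ^ 2 = algebraMap F (Module.End F V) ν := by
  classical
  set f := minpoly F L with hf
  have hint : IsIntegral F L := Algebra.IsIntegral.isIntegral L
  have hf0 : f ≠ 0 := minpoly.ne_zero hint
  have hfd : f ∣ (∑ i ∈ Finset.range r, (X : F[X]) ^ i) * (X - 1) := by
    apply minpoly.dvd
    rw [geom_sum_mul, map_sub, map_pow, aeval_X, map_one, hL, sub_self]
  obtain ⟨g, hg, hgf, hgd⟩ : ∃ g : F[X], Irreducible g ∧ g ∣ f ∧ g ∣ ∑ i ∈ Finset.range r, (X : F[X]) ^ i := by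
    by_contra hcon
    push Not at hcon
    have hcop : IsCoprime f (∑ i ∈ Finset.range r, (X : F[X]) ^ i) := by
      by_contra hnc
      have h1 : ¬ IsUnit (EuclideanDomain.gcd f (∑ i ∈ Finset.range r, (X : F[X]) ^ i)) := by
        rwa [EuclideanDomain.gcd_isUnit_iff]
      have h2 : EuclideanDomain.gcd f (∑ i ∈ Finset.range r, (X : F[X]) ^ i) ≠ 0 := by
        intro h0
        exact hf0 (EuclideanDomain.gcd_eq_zero_iff.1 h0).1
      obtain ⟨g, hg, hgd⟩ := WfDvdMonoid.exists_irreducible_factor h1 h2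
      exact hcon g hg (hgd.trans (EuclideanDomain.gcd_dvd_left _ _)) (hgd.trans (EuclideanDomain.gcd_dvd_right _ _))
    have h1 : f ∣ X - 1 := hcop.dvd_of_dvd_mul_left hfd
    obtain ⟨w, hw⟩ := h1
    have h2 := congrArg (aeval L) hw
    rw [map_mul, hf, minpoly.aeval, zero_mul, map_sub, aeval_X, map_one, sub_eq_zero] at h2
    exact hL1 h2
  have hdeg : 2 ^ (k + 1) ∣ g.natDegree := dvd_natDegree hr hr2 h hg hgd
  have hfdeg : f.natDegree ≤ 2 ^ (k + 1) := by
    rw [← hV, ← LinearMap.charpoly_natDegree L]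
    exact Polynomial.natDegree_le_of_dvd (LinearMap.minpoly_dvd_charpoly L) (LinearMap.charpoly_monic L).ne_zero
  have hgd0 : 0 < g.natDegree := hg.natDegree_pos
  have h1 : g.natDegree ≤ f.natDegree := Polynomial.natDegree_le_of_dvd hgf hf0
  have h2 : 2 ^ (k + 1) ≤ g.natDegree := Nat.le_of_dvd hgd0 hdeg
  have hgn : g.natDegree = 2 ^ (k + 1) := by omega
  have hgf' : f ∣ g := by
    obtain ⟨w, hw⟩ := hgf
    have hw0 : w ≠ 0 := by rintro rfl; rw [mul_zero] at hw; exact hf0 hw
    have h3 : f.natDegree = g.natDegree + w.natDegree := by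
      rw [hw, Polynomial.natDegree_mul hg.ne_zero hw0]
    have h4 : w.natDegree = 0 := by omega
    have h5 : IsUnit w := Polynomial.isUnit_iff_degree_eq_zero.2 (by
      rw [Polynomial.degree_eq_natDegree hw0, h4]; rfl)
    rw [hw]
    exact (h5.mul_right_dvd).2 (dvd_refl g)
  haveI : Fact (Irreducible g) := ⟨hg⟩
  let K := AdjoinRoot g
  let B := AdjoinRoot.powerBasis hg.ne_zero
  have hfd : FiniteDimensional F K := B.finite
  have hfin : Finite K := Module.finite_of_finite F
  letI := Fintype.ofFinite K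
  have hcard : Fintype.card K = Fintype.card F ^ 2 ^ (k + 1) := by
    have h2 : Fintype.card K = Fintype.card F ^ Module.finrank F K := Module.card_eq_pow_finrank
    rw [h2, B.finrank, AdjoinRoot.powerBasis_dim hg.ne_zero, hgn]
  have hsq : IsSquare (algebraMap F K ν) := by
    by_cases hν : ν = 0
    · rw [hν, map_zero]; exact ⟨0, by rw [mul_zero]⟩
    by_cases hc2 : ringChar K = 2
    · exact FiniteField.isSquare_of_char_two hc2 _
    rw [FiniteField.isSquare_iff hc2 (by simpa using hν)]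
    have h3 : (Fintype.card F - 1) ∣ Fintype.card K / 2 := by
      have hodd : Fintype.card K % 2 = 1 := FiniteField.odd_card_of_char_ne_two hc2
      set c := Fintype.card F ^ 2 ^ k with hc
      have h4 : Fintype.card K = c * c := by rw [hcard, pow_succ, pow_mul, sq, hc]
      have hco : c % 2 = 1 := by
        rcases Nat.even_or_odd c with he | ho
        · exfalso
          obtain ⟨e, he⟩ := he
          rw [h4, he] at hodd
          have : (e + e) * (e + e) = 2 * (2 * (e * e)) := by ring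
          rw [this] at hodd
          omega
        · exact Nat.odd_iff.1 ho
      have h5 : (Fintype.card F - 1) ∣ c - 1 := by
        have := Nat.sub_dvd_pow_sub_pow (Fintype.card F) 1 (2 ^ k)
        rwa [one_pow] at this
      obtain ⟨e, he⟩ : ∃ e, c = 2 * e + 1 := ⟨c / 2, by omega⟩
      have h6 : Fintype.card K / 2 = (c - 1) * (e + 1) := by
        rw [h4, he, Nat.add_sub_cancel]
        have : (2 * e + 1) * (2 * e + 1) = 2 * (2 * e * (e + 1)) + 1 := by ring
        rw [this]
        omega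
      rw [h6]
      exact h5.mul_right _
    obtain ⟨d, hd⟩ := h3
    rw [← map_pow, hd, pow_mul, FiniteField.pow_card_sub_one_eq_one ν hν, one_pow, map_one]
  obtain ⟨κ, hκ⟩ := hsq
  obtain ⟨P, rfl⟩ := AdjoinRoot.mk_surjective κ
  refine ⟨P, ?_⟩
  have h3 : g ∣ P ^ 2 - C ν := by
    rw [← AdjoinRoot.mk_eq_zero, map_sub, map_pow, sq, ← hκ, AdjoinRoot.mk_C, AdjoinRoot.algebraMap_eq, sub_self]
  have h4 : aeval L (P ^ 2 - C ν) = 0 := by
    obtain ⟨w, hw⟩ := hgf'.trans h3
    rw [hw, map_mul, hf, minpoly.aeval, zero_mul]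
  rw [map_sub, map_pow, aeval_C, sub_eq_zero] at h4
  exact h4

theorem aeval_pow_card (L : Module.End F V) (P : F[X]) (k : ℕ) :
    (aeval L P) ^ (Fintype.card F ^ k) = aeval (L ^ (Fintype.card F ^ k)) P := by
  induction k with
  | zero => rw [pow_zero, pow_one, pow_one]
  | succ k ih =>
    rw [pow_succ, pow_mul, ih, ← map_pow, ← FiniteField.expand_card, expand_aeval, pow_mul]

end Poly

section Adj

variable {F V : Type*} [Field F] [AddCommGroup V] [Module F V]

/-- adjoints of polynomials -/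
theorem adj {B : V → V → F} (hal : ∀ u u' v, B (u + u') v = B u v + B u' v)
    (har : ∀ u v v', B u (v + v') = B u v + B u v') (hsl : ∀ (a : F) u v, B (a • u) v = a * B u v)
    (hsr : ∀ (a : F) u v, B u (a • v) = a * B u v) {L L' : Module.End F V} (h : ∀ u v, B (L u) v = B u (L' v))
    (P : F[X]) (u v : V) : B (aeval L P u) v = B u (aeval L' P v) := by
  induction P using Polynomial.induction_on generalizing u v with
  | C a => rw [aeval_C, aeval_C, Module.algebraMap_end_apply, Module.algebraMap_end_apply, hsl, hsr]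
  | add P Q hP hQ =>
    rw [map_add, map_add, LinearMap.add_apply, LinearMap.add_apply, hal, har, hP, hQ]
  | monomial n a hP =>
    have e1 : aeval L (C a * X ^ (n + 1)) = aeval L (C a * X ^ n) * L := by
      rw [pow_succ, ← mul_assoc, map_mul (aeval L), aeval_X]
    have e2 : aeval L' (C a * X ^ (n + 1)) = L' * aeval L' (C a * X ^ n) := by
      rw [pow_succ', mul_left_comm, map_mul (aeval L'), aeval_X]
    rw [e1, e2, Module.End.mul_apply, Module.End.mul_apply, hP, h]

end Adj

end Cfsg.Agent.H767.PO
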